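import Mathlib

/-!
# Abstract lemmas for the characteristic chain of a Sylow 2-subgroup of `McL`

`commPre S N` is the subgroup `{x ∈ S | ∀ s ∈ S, x s x⁻¹ s⁻¹ ∈ N}` (the preimage in `S` of the centre of
`S / N`) for a subgroup `N` normalised by `S`; commutator and normalisation conditions can be checked on
generators of `S`.
-/

set_option autoImplicit false

namespace Cfsg.Agent.Lib.Helper86.McLFus

variable {K : Type*} [Group K]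

/-- `{x ∈ S | ∀ s ∈ S, x s x⁻¹ s⁻¹ ∈ N}` as a subgroup, for `N` normalised by `S`. -/
def commPre (S N : Subgroup K) (hN : ∀ s ∈ S, ∀ n ∈ N, s * n * s⁻¹ ∈ N) : Subgroup K where
  carrier := {x | x ∈ S ∧ ∀ s ∈ S, x * s * x⁻¹ * s⁻¹ ∈ N}
  one_mem' := ⟨S.one_mem, fun s _ => by
    have : (1 : K) * s * 1⁻¹ * s⁻¹ = 1 := by group
    rw [this]; exact N.one_mem⟩
  mul_mem' := by
    rintro x y ⟨hx, hx'⟩ ⟨hy, hy'⟩
    refine ⟨S.mul_mem hx hy, fun s hs => ?_⟩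
    have : x * y * s * (x * y)⁻¹ * s⁻¹ = x * (y * s * y⁻¹ * s⁻¹) * x⁻¹ * (x * s * x⁻¹ * s⁻¹) := by
      group
    rw [this]
    exact N.mul_mem (hN x hx _ (hy' s hs)) (hx' s hs)
  inv_mem' := by
    rintro x ⟨hx, hx'⟩
    refine ⟨S.inv_mem hx, fun s hs => ?_⟩
    have : x⁻¹ * s * x⁻¹⁻¹ * s⁻¹ = x⁻¹ * (x * s * x⁻¹ * s⁻¹)⁻¹ * x⁻¹⁻¹ := by group
    rw [this]
    exact hN x⁻¹ (S.inv_mem hx) _ (N.inv_mem (hx' s hs))

theorem mem_commPre {S N : Subgroup K} {hN : ∀ s ∈ S, ∀ n ∈ N, s * n * s⁻¹ ∈ N} {x : K} :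
    x ∈ commPre S N hN ↔ x ∈ S ∧ ∀ s ∈ S, x * s * x⁻¹ * s⁻¹ ∈ N := Iff.rfl

theorem commPre_le {S N : Subgroup K} (hN : ∀ s ∈ S, ∀ n ∈ N, s * n * s⁻¹ ∈ N) :
    commPre S N hN ≤ S := fun _ hx => hx.1

/-- `commPre S N` is normalised by `S`. -/
theorem commPre_normalized {S N : Subgroup K} (hN : ∀ s ∈ S, ∀ n ∈ N, s * n * s⁻¹ ∈ N) :
    ∀ s ∈ S, ∀ x ∈ commPre S N hN, s * x * s⁻¹ ∈ commPre S N hN := by
  rintro s hs x ⟨hx, hx'⟩
  refine ⟨S.mul_mem (S.mul_mem hs hx) (S.inv_mem hs), fun t ht => ?_⟩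
  have : s * x * s⁻¹ * t * (s * x * s⁻¹)⁻¹ * t⁻¹ =
      s * (x * (s⁻¹ * t * s) * x⁻¹ * (s⁻¹ * t * s)⁻¹) * s⁻¹ := by group
  rw [this]
  exact hN s hs _ (hx' _ (S.mul_mem (S.mul_mem (S.inv_mem hs) ht) hs))

/-- The commutator condition may be checked on generators. -/
theorem comm_mem_of_gens (X : Set K) (N : Subgroup K)
    (hN : ∀ s ∈ Subgroup.closure X, ∀ n ∈ N, s * n * s⁻¹ ∈ N) (x : K)
    (h : ∀ y ∈ X, x * y * x⁻¹ * y⁻¹ ∈ N) :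
    ∀ s ∈ Subgroup.closure X, x * s * x⁻¹ * s⁻¹ ∈ N := by
  intro s hs
  induction hs using Subgroup.closure_induction with
  | mem y hy => exact h y hy
  | one =>
    have : x * 1 * x⁻¹ * (1 : K)⁻¹ = 1 := by group
    rw [this]; exact N.one_mem
  | mul a b ha hb iha ihb =>
    have : x * (a * b) * x⁻¹ * (a * b)⁻¹ = (x * a * x⁻¹ * a⁻¹) * (a * (x * b * x⁻¹ * b⁻¹) * a⁻¹) := by
      group
    rw [this]
    exact N.mul_mem iha (hN a ha _ ihb)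
  | inv a ha iha =>
    have : x * a⁻¹ * x⁻¹ * a⁻¹⁻¹ = a⁻¹ * (x * a * x⁻¹ * a⁻¹)⁻¹ * a⁻¹⁻¹ := by group
    rw [this]
    exact hN a⁻¹ (Subgroup.inv_mem _ ha) _ (N.inv_mem iha)

/-- Normalisation may be checked on generators (in both directions). -/
theorem normalized_both_of_gens (X : Set K) (N : Subgroup K)
    (h : ∀ y ∈ X, ∀ n ∈ N, y * n * y⁻¹ ∈ N) (h' : ∀ y ∈ X, ∀ n ∈ N, y⁻¹ * n * y ∈ N) :
    ∀ s ∈ Subgroup.closure X, (∀ n ∈ N, s * n * s⁻¹ ∈ N) ∧ (∀ n ∈ N, s⁻¹ * n * s ∈ N) := by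
  intro s hs
  induction hs using Subgroup.closure_induction with
  | mem y hy => exact ⟨h y hy, h' y hy⟩
  | one =>
    refine ⟨fun n hn => ?_, fun n hn => ?_⟩
    · have : (1 : K) * n * 1⁻¹ = n := by group
      rw [this]; exact hn
    · have : (1 : K)⁻¹ * n * 1 = n := by group
      rw [this]; exact hn
  | mul a b _ _ iha ihb =>
    refine ⟨fun n hn => ?_, fun n hn => ?_⟩
    · have : a * b * n * (a * b)⁻¹ = a * (b * n * b⁻¹) * a⁻¹ := by group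
      rw [this]
      exact iha.1 _ (ihb.1 n hn)
    · have : (a * b)⁻¹ * n * (a * b) = b⁻¹ * (a⁻¹ * n * a) * b := by group
      rw [this]
      exact ihb.2 _ (iha.2 n hn)
  | inv a _ iha =>
    refine ⟨fun n hn => ?_, fun n hn => ?_⟩
    · have : a⁻¹ * n * a⁻¹⁻¹ = a⁻¹ * n * a := by group
      rw [this]
      exact iha.2 n hn
    · have : a⁻¹⁻¹ * n * a⁻¹ = a * n * a⁻¹ := by group
      rw [this]
      exact iha.1 n hn

theorem normalized_of_gens (X : Set K) (N : Subgroup K)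
    (h : ∀ y ∈ X, ∀ n ∈ N, y * n * y⁻¹ ∈ N) (h' : ∀ y ∈ X, ∀ n ∈ N, y⁻¹ * n * y ∈ N) :
    ∀ s ∈ Subgroup.closure X, ∀ n ∈ N, s * n * s⁻¹ ∈ N :=
  fun s hs => (normalized_both_of_gens X N h h' s hs).1

end Cfsg.Agent.Lib.Helper86.McLFus
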