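import Cfsg.Agent.Lib.Helper86.McL.Enum
import Cfsg.Agent.Lib.Helper77.McLFusOdd

/-!
# The characteristic chain of the Sylow 2-subgroup `S0` of the monomial `M22 ≤ McL`

`1 < Z1 < Z2 < A8 < Z3 < H32 < J < S0` with orders `2, 4, 8, 16, 32, 64, 128`; consequently `S0` has no
nontrivial automorphism of odd order.  Also: `Z(S0) = {1, el 127}` and the three generators of `S0` are
conjugate to `el 127` inside the monomial `M22`.
-/

set_option autoImplicit false

namespace Cfsg.Agent.Lib.Helper86.McLFus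

open Cfsg Cfsg.Agent.Lib.Helper7 Cfsg.Agent.Lib.Helper27

/-- `[el i, el k] = el n`, on tables: `el i * el k = el n * (el k * el i)` -/
def commIsB (i k n : ℕ) : Bool := tabEq (compT (T i) (T k)) (compT (T n) (compT (T k) (T i)))

theorem comm_eq_iff (i k n : ℕ) :
    el i * el k * (el i)⁻¹ * (el k)⁻¹ = el n ↔ commIsB i k n = true := by
  unfold commIsB
  rw [← perm_eq_iff_tabEq (matches_mul (el_match i) (el_match k))
    (matches_mul (el_match n) (matches_mul (el_match k) (el_match i)))]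
  constructor
  · intro h
    rw [← h]
    group
  · intro h
    rw [h]
    group

/-- `[el i, el k] ∈ {el n | n ∈ LN}` -/
def commInB (LN : List ℕ) (i k : ℕ) : Bool := LN.any fun n => commIsB i k n

/-- enumeration of `commPre S0 N` from an enumeration of `N` -/
theorem commPre_enum (N : Subgroup (Equiv.Perm GolayPt))
    (hN : ∀ s ∈ S0, ∀ n ∈ N, s * n * s⁻¹ ∈ N)
    (LN : List ℕ) (hLN : ∀ x, x ∈ N ↔ ∃ n ∈ LN, x = el n) (L' : List ℕ)
    (hchk : (List.range 128).filter (fun i => [1, 2, 3].all fun k => commInB LN i k) = L') :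
    ∀ x, x ∈ commPre S0 N hN ↔ ∃ i ∈ L', x = el i := by
  intro x
  rw [mem_commPre]
  constructor
  · rintro ⟨hx, hx'⟩
    obtain ⟨i, hi, rfl⟩ := (mem_S0_iff x).1 hx
    refine ⟨i, ?_, rfl⟩
    rw [← hchk, List.mem_filter, List.all_eq_true]
    refine ⟨List.mem_range.2 hi, fun k _ => ?_⟩
    obtain ⟨n, hn, hn'⟩ := (hLN _).1 (hx' (el k) (el_mem_S0 k))
    unfold commInB
    rw [List.any_eq_true]
    exact ⟨n, hn, (comm_eq_iff i k n).1 hn'⟩
  · rintro ⟨i, hi, rfl⟩
    rw [← hchk, List.mem_filter, List.all_eq_true] at hi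
    refine ⟨el_mem_S0 i, ?_⟩
    apply comm_mem_of_gens {el 1, el 2, el 3} N hN (el i)
    intro y hy
    obtain ⟨k, hk, rfl⟩ := mem_X_iff.1 hy
    have h := hi.2 k hk
    unfold commInB at h
    rw [List.any_eq_true] at h
    obtain ⟨n, hn, hn'⟩ := h
    rw [(comm_eq_iff i k n).2 hn']
    exact (hLN _).2 ⟨n, hn, rfl⟩

/-- `el i` and `el j` commute, on tables -/
def commB (i j : ℕ) : Bool := tabEq (compT (T i) (T j)) (compT (T j) (T i))

theorem commute_iff (i j : ℕ) : el i * el j = el j * el i ↔ commB i j = true :=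
  perm_eq_iff_tabEq (matches_mul (el_match i) (el_match j)) (matches_mul (el_match j) (el_match i))

/-- enumeration of `H ⊓ centralizer C` from enumerations of `H` and `C` -/
theorem cent_enum (H : Subgroup (Equiv.Perm GolayPt)) (LH : List ℕ)
    (hLH : ∀ x, x ∈ H ↔ ∃ i ∈ LH, x = el i) (C : Set (Equiv.Perm GolayPt)) (LC : List ℕ)
    (hLC : ∀ x, x ∈ C ↔ ∃ i ∈ LC, x = el i) (L' : List ℕ)
    (hchk : LH.filter (fun i => LC.all fun j => commB i j) = L') :
    ∀ x, x ∈ H ⊓ Subgroup.centralizer C ↔ ∃ i ∈ L', x = el i := by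
  intro x
  rw [Subgroup.mem_inf, Subgroup.mem_centralizer_iff]
  constructor
  · rintro ⟨hx, hx'⟩
    obtain ⟨i, hi, rfl⟩ := (hLH x).1 hx
    refine ⟨i, ?_, rfl⟩
    rw [← hchk, List.mem_filter, List.all_eq_true]
    refine ⟨hi, fun j hj => ?_⟩
    exact (commute_iff i j).1 (hx' (el j) ((hLC _).2 ⟨j, hj, rfl⟩)).symm
  · rintro ⟨i, hi, rfl⟩
    rw [← hchk, List.mem_filter, List.all_eq_true] at hi
    refine ⟨(hLH _).2 ⟨i, hi.1, rfl⟩, fun h hh => ?_⟩
    obtain ⟨j, hj, rfl⟩ := (hLC h).1 hh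
    exact ((commute_iff i j).2 (hi.2 j hj)).symm

theorem S0_enum : ∀ x, x ∈ S0 ↔ ∃ i ∈ List.range 128, x = el i := by
  intro x
  rw [mem_S0_iff]
  constructor
  · rintro ⟨i, hi, rfl⟩; exact ⟨i, List.mem_range.2 hi, rfl⟩
  · rintro ⟨i, hi, rfl⟩; exact ⟨i, List.mem_range.1 hi, rfl⟩

theorem bot_normalized : ∀ s ∈ S0, ∀ n ∈ (⊥ : Subgroup (Equiv.Perm GolayPt)),
    s * n * s⁻¹ ∈ (⊥ : Subgroup (Equiv.Perm GolayPt)) := by
  intro s _ n hn
  rw [Subgroup.mem_bot] at hn ⊢
  rw [hn]
  group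

theorem bot_enum : ∀ x, x ∈ (⊥ : Subgroup (Equiv.Perm GolayPt)) ↔ ∃ n ∈ [0], x = el n := by
  intro x
  rw [Subgroup.mem_bot]
  simp [el_zero]

/-- the centre of `S0` -/
noncomputable def Z1 : Subgroup (Equiv.Perm GolayPt) := commPre S0 ⊥ bot_normalized

theorem Z1_enum : ∀ x, x ∈ Z1 ↔ ∃ i ∈ z1L, x = el i :=
  commPre_enum ⊥ bot_normalized [0] bot_enum z1L (by decide +kernel)

/-- the second centre of `S0` -/
noncomputable def Z2 : Subgroup (Equiv.Perm GolayPt) := commPre S0 Z1 (commPre_normalized _)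

theorem Z2_enum : ∀ x, x ∈ Z2 ↔ ∃ i ∈ z2L, x = el i :=
  commPre_enum Z1 (commPre_normalized _) z1L Z1_enum z2L (by decide +kernel)

/-- the third centre of `S0` -/
noncomputable def Z3 : Subgroup (Equiv.Perm GolayPt) := commPre S0 Z2 (commPre_normalized _)

theorem Z3_enum : ∀ x, x ∈ Z3 ↔ ∃ i ∈ z3L, x = el i :=
  commPre_enum Z2 (commPre_normalized _) z2L Z2_enum z3L (by decide +kernel)

/-- the centraliser in `Z3` of an element of order 4 -/
noncomputable def A8 : Subgroup (Equiv.Perm GolayPt) := Z3 ⊓ Subgroup.centralizer {el 86}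

theorem A8_enum : ∀ x, x ∈ A8 ↔ ∃ i ∈ a8L, x = el i :=
  cent_enum Z3 z3L Z3_enum {el 86} [86] (fun x => by simp) a8L (by decide +kernel)

/-- `el k * el m = el m' * el k` for some `m' ∈ L` -/
def conjInB (L : List ℕ) (k m : ℕ) : Bool :=
  L.any fun m' => tabEq (compT (T k) (T m)) (compT (T m') (T k))

theorem A8_conj_chk : ∀ k ∈ [1, 2, 3], ∀ m ∈ a8L, conjInB a8L k m = true := by decide +kernel

theorem A8_conj {k : ℕ} (hk : k ∈ [1, 2, 3]) {n : Equiv.Perm GolayPt} (hn : n ∈ A8) :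
    el k * n * (el k)⁻¹ ∈ A8 := by
  obtain ⟨m, hm, rfl⟩ := (A8_enum n).1 hn
  have h := A8_conj_chk k hk m hm
  unfold conjInB at h
  rw [List.any_eq_true] at h
  obtain ⟨m', hm', h'⟩ := h
  have h2 : el k * el m = el m' * el k :=
    (perm_eq_iff_tabEq (matches_mul (el_match k) (el_match m))
      (matches_mul (el_match m') (el_match k))).2 h'
  rw [h2, mul_inv_cancel_right]
  exact (A8_enum _).2 ⟨m', hm', rfl⟩

theorem A8_normalized : ∀ s ∈ S0, ∀ n ∈ A8, s * n * s⁻¹ ∈ A8 := by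
  apply normalized_of_gens {el 1, el 2, el 3} A8
  · intro y hy n hn
    obtain ⟨k, hk, rfl⟩ := mem_X_iff.1 hy
    exact A8_conj hk hn
  · intro y hy n hn
    obtain ⟨k, hk, rfl⟩ := mem_X_iff.1 hy
    have := A8_conj hk hn
    rwa [gen_inv hk] at this ⊢

/-- the preimage of the centre of `S0 / A8` -/
noncomputable def H32 : Subgroup (Equiv.Perm GolayPt) := commPre S0 A8 A8_normalized

theorem H32_enum : ∀ x, x ∈ H32 ↔ ∃ i ∈ h32L, x = el i :=
  commPre_enum A8 A8_normalized a8L A8_enum h32L (by decide +kernel)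

/-- the centraliser of the second centre -/
noncomputable def J : Subgroup (Equiv.Perm GolayPt) :=
  S0 ⊓ Subgroup.centralizer (Z2 : Set (Equiv.Perm GolayPt))

theorem J_chk : (List.range 128).filter (fun i => z2L.all fun j => commB i j) = jL := by
  decide +kernel

theorem J_enum : ∀ x, x ∈ J ↔ ∃ i ∈ jL, x = el i := by
  intro x
  unfold J
  exact cent_enum S0 (List.range 128) S0_enum (Z2 : Set (Equiv.Perm GolayPt)) z2L
    (fun x => Z2_enum x) jL J_chk x

theorem le_of_enum {H H' : Subgroup (Equiv.Perm GolayPt)} {L L' : List ℕ}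
    (h : ∀ x, x ∈ H ↔ ∃ i ∈ L, x = el i) (h' : ∀ x, x ∈ H' ↔ ∃ i ∈ L', x = el i)
    (hLL : ∀ i ∈ L, i ∈ L') : H ≤ H' := by
  intro x hx
  obtain ⟨i, hi, rfl⟩ := (h x).1 hx
  exact (h' _).2 ⟨i, hLL i hi, rfl⟩

theorem sq_chk : ∀ i ∈ z3L, tabEq (compT (T i) (T i)) idT = false → i ∈ a8L := by decide +kernel

theorem sq86_chk : tabEq (compT (T 86) (T 86)) idT = false := by decide +kernel

/-- **`S0` has no nontrivial automorphism of odd order.** -/
theorem odd_aut_S0 : ∀ α : MulAut ↥S0, Odd (orderOf α) → α = 1 := by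
  apply Cfsg.Agent.Lib.Helper77.McLFusOdd.odd_aut_trivial_of_chain S0 Z1 Z2 A8 Z3 H32 J card_S0
    ((card_of_enum Z1 z1L (by decide) (by decide) Z1_enum).trans (by decide))
    ((card_of_enum Z2 z2L (by decide) (by decide) Z2_enum).trans (by decide))
    ((card_of_enum A8 a8L (by decide) (by decide) A8_enum).trans (by decide))
    ((card_of_enum Z3 z3L (by decide) (by decide) Z3_enum).trans (by decide))
    ((card_of_enum H32 h32L (by decide) (by decide) H32_enum).trans (by decide))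
    ((card_of_enum J jL (by decide) (by decide) J_enum).trans (by decide))
  · -- hZ1
    intro x
    unfold Z1
    rw [mem_commPre]
    refine and_congr_right fun _ => forall₂_congr fun s _ => ?_
    rw [Subgroup.mem_bot, mul_inv_eq_one, mul_inv_eq_iff_eq_mul]
  · intro x; exact mem_commPre
  · intro x; exact mem_commPre
  · -- hJ'
    intro x
    unfold J
    rw [Subgroup.mem_inf, Subgroup.mem_centralizer_iff]
    refine and_congr_right fun _ => forall₂_congr fun y _ => ?_
    exact eq_comm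
  · exact le_of_enum Z2_enum A8_enum (by decide)
  · exact inf_le_left
  · -- hA8c
    intro x hx hxx
    obtain ⟨i, hi, rfl⟩ := (Z3_enum x).1 hx
    refine (A8_enum _).2 ⟨i, sq_chk i hi ?_, rfl⟩
    by_contra hne
    rw [Bool.not_eq_false] at hne
    exact hxx ((perm_eq_iff_tabEq (matches_mul (el_match i) (el_match i)) matches_one).2 hne)
  · -- hA8d
    refine ⟨el 86, (A8_enum _).2 ⟨86, by decide, rfl⟩, ?_, ?_⟩
    · intro h
      obtain ⟨j, hj, hj'⟩ := (Z2_enum _).1 h
      have hall : ∀ j ∈ z2L, j < 128 := by decide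
      have hj128 : j < 128 := hall j hj
      have := el_inj (by norm_num) hj128 hj'
      subst this
      revert hj
      decide
    · intro h
      have := (perm_eq_iff_tabEq (matches_mul (el_match 86) (el_match 86)) matches_one).1 h
      rw [sq86_chk] at this
      exact absurd this (by decide)
  · intro x; exact mem_commPre
  · exact le_of_enum H32_enum J_enum (by decide)

end Cfsg.Agent.Lib.Helper86.McLFus
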