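import Cfsg.Agent.Lib.Helper86.McL.Chain

/-!
# Centre of `S0`, the monomial `M22`, and the conjugators

`S0 ≤ M22mon := M24 ⊓ Stab(∞) ⊓ Stab(0)`, `Z(S0) = {1, el 127}`, and each generator `el k` of `S0`
(`k = 1, 2, 3`) is `M22mon`-conjugate to `el 127`.
-/

set_option autoImplicit false

namespace Cfsg.Agent.Lib.Helper86.McLFus

open Cfsg Cfsg.Agent.Lib.Helper7 Cfsg.Agent.Lib.Helper27

/-- the monomial `M22` inside `Perm GolayPt` -/
def M22mon : Subgroup (Equiv.Perm GolayPt) :=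
  M24 ⊓ MulAction.stabilizer (Equiv.Perm GolayPt) (none : GolayPt) ⊓
    MulAction.stabilizer (Equiv.Perm GolayPt) (some 0 : GolayPt)

theorem center_S0 : ∀ x ∈ S0, (∀ s ∈ S0, s * x = x * s) → x = 1 ∨ x = el 127 := by
  intro x hx hc
  have hz : x ∈ Z1 := by
    unfold Z1
    rw [mem_commPre]
    refine ⟨hx, fun s hs => ?_⟩
    rw [Subgroup.mem_bot, mul_inv_eq_one, mul_inv_eq_iff_eq_mul]
    exact (hc s hs).symm
  obtain ⟨i, hi, rfl⟩ := (Z1_enum x).1 hz
  simp only [z1L, List.mem_cons, List.not_mem_nil, or_false] at hi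
  rcases hi with rfl | rfl
  · exact Or.inl el_zero
  · exact Or.inr rfl

theorem gT_fix_chk : ∀ k < 6, (gT k).getD 23 0 = 23 ∧ (gT k).getD 0 0 = 0 := by decide +kernel

theorem pt_23 : pt 23 = (none : GolayPt) := rfl

theorem pt_0 : pt 0 = (some 0 : GolayPt) := by simp [pt]

theorem gs_mem_M22mon {k : ℕ} (hk : k < 6) : gs k ∈ M22mon := by
  unfold M22mon
  refine Subgroup.mem_inf.2 ⟨Subgroup.mem_inf.2 ⟨gs_mem_M24 k, ?_⟩, ?_⟩
  · rw [MulAction.mem_stabilizer_iff, Equiv.Perm.smul_def, ← pt_23]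
    exact matches_apply (gs_match k) (by decide) (by decide) (gT_fix_chk k hk).1
  · rw [MulAction.mem_stabilizer_iff, Equiv.Perm.smul_def, ← pt_0]
    exact matches_apply (gs_match k) (by decide) (by decide) (gT_fix_chk k hk).2

theorem S0_le_M22mon : S0 ≤ M22mon := by
  unfold S0
  rw [Subgroup.closure_le]
  intro y hy
  simp only [Set.mem_insert_iff, Set.mem_singleton_iff] at hy
  rcases hy with rfl | rfl | rfl
  · rw [el_one]; exact gs_mem_M22mon (by norm_num)
  · rw [el_two]; exact gs_mem_M22mon (by norm_num)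
  · rw [el_three]; exact gs_mem_M22mon (by norm_num)

theorem conj_chk : ∀ k ∈ [1, 2, 3],
    tabEq (compT (gT (k + 2)) (T 127)) (compT (T k) (gT (k + 2))) = true := by decide +kernel

theorem gen_conj : ∀ x ∈ ({el 1, el 2, el 3} : Set (Equiv.Perm GolayPt)),
    ∃ h ∈ M22mon, h * el 127 * h⁻¹ = x := by
  intro x hx
  obtain ⟨k, hk, rfl⟩ := mem_X_iff.1 hx
  have hk6 : k + 2 < 6 := by
    simp only [List.mem_cons, List.not_mem_nil, or_false] at hk
    omega
  refine ⟨gs (k + 2), gs_mem_M22mon hk6, ?_⟩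
  have h : gs (k + 2) * el 127 = el k * gs (k + 2) :=
    (perm_eq_iff_tabEq (matches_mul (gs_match (k + 2)) (el_match 127))
      (matches_mul (el_match k) (gs_match (k + 2)))).2 (conj_chk k hk)
  rw [h, mul_inv_cancel_right]

end Cfsg.Agent.Lib.Helper86.McLFus
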