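import Cfsg.Agent.Lib.Helper86.McL.Data
import Cfsg.Agent.Lib.Helper86.McL.Abs

/-!
# Enumeration of an explicit Sylow 2-subgroup `S0` (order 128) of the monomial `M22 ≤ McL`

The 128 elements `el i` are produced by a straight-line program from three involutions
`el 1, el 2, el 3` of `M24` (fixing `∞` and `0`); their tables `T i` are literal data; equalities of
products of the `el i` are decided on tables.
-/

set_option autoImplicit false

namespace Cfsg.Agent.Lib.Helper86.McLFus

open Cfsg Cfsg.Agent.Lib.Helper7 Cfsg.Agent.Lib.Helper27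

/-- Boolean equality of tables on the 24 positions -/
def tabEq (t u : List ℕ) : Bool := (List.range 24).all fun i => t.getD i 0 == u.getD i 0

theorem tabEq_iff (t u : List ℕ) : tabEq t u = true ↔ ∀ i < 24, t.getD i 0 = u.getD i 0 := by
  unfold tabEq
  rw [List.all_eq_true]
  constructor
  · intro h i hi
    have := h i (List.mem_range.2 hi)
    rwa [beq_iff_eq] at this
  · intro h i hi
    rw [beq_iff_eq]
    exact h i (List.mem_range.1 hi)

theorem perm_eq_iff_tabEq {σ τ : Equiv.Perm GolayPt} {t u : List ℕ} (hσ : Matches σ t)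
    (hτ : Matches τ u) : σ = τ ↔ tabEq t u = true := by
  rw [tabEq_iff]
  constructor
  · rintro rfl i hi
    have h1 := hσ (pt i)
    have h2 := hτ (pt i)
    rw [idx_pt hi] at h1 h2
    rw [← h1, ← h2]
  · intro h
    refine Equiv.ext fun p => idx_injective ?_
    rw [hσ p, hτ p, h _ (idx_lt p)]

/-- the six permutations `s1, s2, s3, h1, h2, h3` -/
noncomputable def gP : List (Equiv.Perm GolayPt) := slpP mclProg mclIdx

theorem slpT_mcl : slpT mclProg mclIdx = mclGT := by decide +kernel

theorem gP_match : List.Forall₂ Matches gP mclGT := by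
  have h := slp_match mclProg mclIdx
  rw [slpT_mcl] at h
  exact h

/-- `gs 0, gs 1, gs 2` are the generators, `gs 3, gs 4, gs 5` the conjugators -/
noncomputable def gs (k : ℕ) : Equiv.Perm GolayPt := gP.getD k 1

/-- table of `gs k` -/
def gT (k : ℕ) : List ℕ := mclGT.getD k idT

theorem gs_match (k : ℕ) : Matches (gs k) (gT k) := forall₂_getD gP_match matches_one k

theorem gs_mem_M24 (k : ℕ) : gs k ∈ M24 := by
  unfold gs
  rw [List.getD_eq_getElem?_getD]
  cases hk : gP[k]? with
  | none => simp
  | some g =>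
    simp only [Option.getD_some]
    exact slpP_mem_M24 mclProg mclIdx g (List.mem_of_getElem? hk)

/-- initial state of the second-stage program -/
noncomputable def st0 : List (Equiv.Perm GolayPt) := [1, gs 0, gs 1, gs 2]

/-- tables of the initial state -/
def st0T : List (List ℕ) := [idT, gT 0, gT 1, gT 2]

theorem st0_match : List.Forall₂ Matches st0 st0T :=
  .cons matches_one (.cons (gs_match 0) (.cons (gs_match 1) (.cons (gs_match 2) .nil)))

/-- the 128 elements, as a list -/
noncomputable def elP : List (Equiv.Perm GolayPt) := runP mclProg2 st0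

theorem runT_mcl2 : runT mclProg2 st0T = elT := by decide +kernel

theorem elP_match : List.Forall₂ Matches elP elT := by
  have h := forall₂_runP_runT mclProg2 st0 st0T st0_match
  rw [runT_mcl2] at h
  exact h

/-- the `i`-th element -/
noncomputable def el (i : ℕ) : Equiv.Perm GolayPt := elP.getD i 1

/-- its table -/
def T (i : ℕ) : List ℕ := elT.getD i idT

theorem el_match (i : ℕ) : Matches (el i) (T i) := forall₂_getD elP_match matches_one i

theorem el_def (i : ℕ) : el i = elP.getD i 1 := rfl

theorem gs_def (k : ℕ) : gs k = gP.getD k 1 := rfl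

attribute [irreducible] el gs

theorem el_zero : el 0 = 1 :=
  (perm_eq_iff_tabEq (el_match 0) matches_one).2 (by decide +kernel)

theorem el_one : el 1 = gs 0 :=
  (perm_eq_iff_tabEq (el_match 1) (gs_match 0)).2 (by decide +kernel)

theorem el_two : el 2 = gs 1 :=
  (perm_eq_iff_tabEq (el_match 2) (gs_match 1)).2 (by decide +kernel)

theorem el_three : el 3 = gs 2 :=
  (perm_eq_iff_tabEq (el_match 3) (gs_match 2)).2 (by decide +kernel)

/-- the Sylow 2-subgroup -/
noncomputable def S0 : Subgroup (Equiv.Perm GolayPt) := Subgroup.closure {el 1, el 2, el 3}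

theorem mem_X_iff {y : Equiv.Perm GolayPt} :
    y ∈ ({el 1, el 2, el 3} : Set (Equiv.Perm GolayPt)) ↔ ∃ k ∈ [1, 2, 3], y = el k := by
  simp

/-- index of `el i * el k` (`k = 1, 2, 3`) -/
def nxt (i k : ℕ) : ℕ := (nxtL.getD i []).getD (k - 1) 0

theorem nxt_ok : ∀ i < 128, ∀ k ∈ [1, 2, 3],
    tabEq (compT (T i) (T k)) (T (nxt i k)) = true ∧ nxt i k < 128 := by decide +kernel

theorem el_mul_gen {i k : ℕ} (hi : i < 128) (hk : k ∈ [1, 2, 3]) : el i * el k = el (nxt i k) :=
  (perm_eq_iff_tabEq (matches_mul (el_match i) (el_match k)) (el_match _)).2 (nxt_ok i hi k hk).1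

theorem gen_sq_chk : ∀ k ∈ [1, 2, 3], tabEq (compT (T k) (T k)) idT = true := by decide +kernel

theorem gen_sq {k : ℕ} (hk : k ∈ [1, 2, 3]) : el k * el k = 1 :=
  (perm_eq_iff_tabEq (matches_mul (el_match k) (el_match k)) matches_one).2 (gen_sq_chk k hk)

theorem gen_inv {k : ℕ} (hk : k ∈ [1, 2, 3]) : (el k)⁻¹ = el k :=
  inv_eq_of_mul_eq_one_right (gen_sq hk)

theorem el_mem_S0 (i : ℕ) : el i ∈ S0 := by
  rw [el_def]
  unfold elP
  apply getD_mem_of_forall
  apply runP_mem S0 mclProg2 st0
  intro g hg
  simp only [st0, List.mem_cons, List.not_mem_nil, or_false] at hg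
  rcases hg with rfl | rfl | rfl | rfl
  · exact S0.one_mem
  · rw [← el_one]; exact Subgroup.subset_closure (by simp)
  · rw [← el_two]; exact Subgroup.subset_closure (by simp)
  · rw [← el_three]; exact Subgroup.subset_closure (by simp)

theorem mem_S0_iff (x : Equiv.Perm GolayPt) : x ∈ S0 ↔ ∃ i < 128, x = el i := by
  constructor
  · intro hx
    unfold S0 at hx
    induction hx using Subgroup.closure_induction_right with
    | one => exact ⟨0, by norm_num, el_zero.symm⟩
    | mul_right x hx y hy ih =>
      obtain ⟨i, hi, rfl⟩ := ih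
      obtain ⟨k, hk, rfl⟩ := mem_X_iff.1 hy
      exact ⟨nxt i k, (nxt_ok i hi k hk).2, el_mul_gen hi hk⟩
    | mul_inv_cancel x hx y hy ih =>
      obtain ⟨i, hi, rfl⟩ := ih
      obtain ⟨k, hk, rfl⟩ := mem_X_iff.1 hy
      rw [gen_inv hk]
      exact ⟨nxt i k, (nxt_ok i hi k hk).2, el_mul_gen hi hk⟩
  · rintro ⟨i, _, rfl⟩
    exact el_mem_S0 i

theorem el_inj_chk : ∀ i < 128, ∀ j < i, tabEq (T i) (T j) = false := by decide +kernel

theorem el_inj {i j : ℕ} (hi : i < 128) (hj : j < 128) (h : el i = el j) : i = j := by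
  have h1 := (perm_eq_iff_tabEq (el_match i) (el_match j)).1 h
  have h2 := (perm_eq_iff_tabEq (el_match j) (el_match i)).1 h.symm
  rcases lt_trichotomy i j with hij | hij | hij
  · rw [el_inj_chk j hj i hij] at h2; exact absurd h2 (by decide)
  · exact hij
  · rw [el_inj_chk i hi j hij] at h1; exact absurd h1 (by decide)

/-- a subgroup enumerated by a duplicate-free list of indices has that many elements -/
theorem card_of_enum (H : Subgroup (Equiv.Perm GolayPt)) (L : List ℕ) (hL : L.Nodup)
    (hlt : ∀ i ∈ L, i < 128) (h : ∀ x, x ∈ H ↔ ∃ i ∈ L, x = el i) : Nat.card H = L.length := by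
  have hset : (H : Set (Equiv.Perm GolayPt)) = el '' (↑L.toFinset : Set ℕ) := by
    ext x
    simp only [SetLike.mem_coe, h, Set.mem_image, List.mem_toFinset]
    constructor
    · rintro ⟨i, hi, rfl⟩; exact ⟨i, hi, rfl⟩
    · rintro ⟨i, hi, rfl⟩; exact ⟨i, hi, rfl⟩
  have hinj : Set.InjOn el (↑L.toFinset : Set ℕ) := by
    intro i hi j hj hij
    simp only [Finset.mem_coe, List.mem_toFinset] at hi hj
    exact el_inj (hlt i hi) (hlt j hj) hij
  calc Nat.card H = (H : Set (Equiv.Perm GolayPt)).ncard := (Nat.card_coe_set_eq _)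
    _ = L.length := by
      rw [hset, Set.InjOn.ncard_image hinj, Set.ncard_coe_finset, List.toFinset_card_of_nodup hL]

theorem card_S0 : Nat.card S0 = 128 := by
  have := card_of_enum S0 (List.range 128) (List.nodup_range) (fun i hi => List.mem_range.1 hi)
    (fun x => by
      rw [mem_S0_iff]
      constructor
      · rintro ⟨i, hi, rfl⟩; exact ⟨i, List.mem_range.2 hi, rfl⟩
      · rintro ⟨i, hi, rfl⟩; exact ⟨i, List.mem_range.1 hi, rfl⟩)
  rw [this, List.length_range]

end Cfsg.Agent.Lib.Helper86.McLFus
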